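import Groth.Agent.CardCrit.Invariant
import Mathlib.RingTheory.Discriminant
import Mathlib.FieldTheory.PurelyInseparable.Basic
import Mathlib.FieldTheory.Normal.Closure
import Mathlib.RingTheory.IntegralClosure.IntegrallyClosed
import Mathlib.LinearAlgebra.Dual.Lemmas
import Mathlib.RingTheory.LittleWedderburn

/-! Enough points of an integral closure force a unit discriminant. -/

set_option autoImplicit false
set_option linter.style.haveILetI false
set_option maxHeartbeats 800000
universe u

noncomputable section

namespace Groth.Agent.CardCrit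

open Polynomial Module

/-- Distinct homomorphisms to a field separate some tuple of elements. -/
theorem exists_det_ne_zero {C Ω : Type*} [CommRing C] [Field Ω] {n : ℕ} (η : Fin n → C →+* Ω)
    (hη : Function.Injective η) : ∃ b : Fin n → C, (Matrix.of fun i j => η j (b i)).det ≠ 0 := by
  classical
  let v : C → (Fin n → Ω) := fun c j => η j c
  have hspan : Submodule.span Ω (Set.range v) = ⊤ := by
    by_contra h
    obtain ⟨φ, hφ, hle⟩ := Submodule.exists_le_ker_of_lt_top _ (lt_top_iff_ne_top.2 h)
    let w : Fin n → Ω := fun j => φ (Pi.single j 1)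
    have hdep : ∀ c, ∑ j, w j * η j c = 0 := fun c => by
      have h0 : φ (v c) = 0 := hle (Submodule.subset_span ⟨c, rfl⟩)
      rw [pi_eq_sum_univ' (v c), map_sum] at h0
      simp only [map_smul, smul_eq_mul] at h0
      refine (Finset.sum_congr rfl fun j _ => ?_).trans h0
      exact mul_comm _ _
    have hli := (linearIndependent_monoidHom C Ω).comp (fun j => (η j).toMonoidHom) fun i j hij =>
      hη (RingHom.ext fun c => congr($hij c))
    have hw := Fintype.linearIndependent_iff.1 hli w (funext fun c => by
      simpa [Finset.sum_apply] using hdep c)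
    refine hφ (LinearMap.ext fun x => ?_)
    rw [pi_eq_sum_univ' x, map_sum]
    simp only [map_smul, LinearMap.zero_apply]
    refine Finset.sum_eq_zero fun j _ => ?_
    show x j • φ (Pi.single j 1) = 0
    rw [show φ (Pi.single j 1) = w j from rfl, hw j, smul_zero]
  obtain ⟨s, hs, hsp, hsli⟩ := exists_linearIndependent Ω (Set.range v)
  rw [hspan] at hsp
  let B := Basis.mk hsli (by rw [Subtype.range_coe_subtype]; exact hsp.ge)
  haveI : Finite ↥s := Module.Finite.finite_basis B
  haveI := Fintype.ofFinite (↥s)
  let e : Fin n ≃ s := ((Pi.basisFun Ω (Fin n)).indexEquiv B)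
  choose b hb using fun i => hs (e i).2
  refine ⟨b, fun hdet => ?_⟩
  have hli : LinearIndependent Ω (fun i => v (b i)) := by
    have : (fun i => v (b i)) = fun i => ((e i : s) : Fin n → Ω) := funext hb
    rw [this]
    exact hsli.comp e e.injective
  refine not_isUnit_zero (M₀ := Ω) ?_
  rw [← hdet]
  exact (Matrix.isUnit_iff_isUnit_det _).1 (Matrix.linearIndependent_rows_iff_isUnit.1
    (show LinearIndependent Ω (Matrix.of fun i j => η j (b i)).row from hli))

/-- A fixed element of a normal extension is purely inseparable. -/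
theorem exists_pow_mem {K N : Type*} [Field K] [Field N] [Algebra K N] [FiniteDimensional K N] [Normal K N]
    (q : ℕ) [ExpChar K q] (x : N) (hx : ∀ g : N ≃ₐ[K] N, g x = x) :
    ∃ e : ℕ, ∃ y : K, algebraMap K N y = x ^ q ^ e := by
  classical
  have hi : IsIntegral K x := Algebra.IsIntegral.isIntegral x
  have h1 : (minpoly K x).natSepDegree = 1 := by
    rw [Polynomial.natSepDegree_eq_of_splits (minpoly K x) (Normal.splits inferInstance x)]
    rw [Finset.card_eq_one]
    refine ⟨x, Finset.eq_singleton_iff_unique_mem.2 ⟨?_, fun y hy => ?_⟩⟩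
    · rw [Multiset.mem_toFinset, Polynomial.mem_aroots]
      exact ⟨minpoly.ne_zero hi, minpoly.aeval K x⟩
    · rw [Multiset.mem_toFinset, Polynomial.mem_aroots] at hy
      obtain ⟨g, hg⟩ := minpoly.exists_algEquiv_of_root' (Algebra.IsAlgebraic.isAlgebraic x) hy.2
      rw [← hg]
      exact (congrArg g rfl).trans (hx g)
  obtain ⟨e, y, hy⟩ := (minpoly.natSepDegree_eq_one_iff_pow_mem q).1 h1
  exact ⟨e, y, hy⟩

variable {R K L Ω : Type u} [CommRing R] [IsDomain R] [IsIntegrallyClosed R] [Field K] [Algebra R K]
  [IsFractionRing R K] [Field L] [Algebra K L] [Algebra R L] [IsScalarTower R K L] [FiniteDimensional K L]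
  [Field Ω] [IsAlgClosed Ω]

theorem exists_discr (η : R →+* Ω) {n : ℕ} (hn : finrank K L = n) (ηC : Fin n → integralClosure R L →+* Ω)
    (hinj : Function.Injective ηC) (hη : ∀ j a, ηC j (algebraMap R (integralClosure R L) a) = η a) :
    ∃ (b : Fin n → L) (d : R), (∀ i, IsIntegral R (b i)) ∧ algebraMap R K d = Algebra.discr K b ∧ η d ≠ 0 := by
  classical
  let C := integralClosure R L
  obtain ⟨bC, hbC⟩ := exists_det_ne_zero ηC hinj
  let b : Fin n → L := fun i => (bC i : L)
  have hb : ∀ i, IsIntegral R (b i) := fun i => (bC i).2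
  have hd : IsIntegral R (Algebra.discr K b) := Algebra.discr_isIntegral K fun i => hb i
  obtain ⟨d, hd⟩ := IsIntegrallyClosed.isIntegral_iff.1 hd
  refine ⟨b, d, hb, hd, ?_⟩
  let N := IntermediateField.normalClosure K L (AlgebraicClosure K)
  haveI : Normal K N := normalClosure.normal K L (AlgebraicClosure K)
  haveI : FiniteDimensional K N := normalClosure.is_finiteDimensional K L (AlgebraicClosure K)
  let τ₀ : L →ₐ[K] AlgebraicClosure K := IsAlgClosed.lift
  let ι : L →ₐ[K] N := AlgHom.codRestrict τ₀ N.toSubalgebra fun x => τ₀.fieldRange_le_normalClosure ⟨x, rfl⟩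
  let B' := integralClosure R N
  let G := N ≃ₐ[K] N
  letI : MulSemiringAction G B' :=
    { smul := fun g x => ⟨g x.1, x.2.map (g.toAlgHom.restrictScalars R)⟩
      one_smul := fun _ => Subtype.ext rfl
      mul_smul := fun _ _ _ => Subtype.ext rfl
      smul_zero := fun g => Subtype.ext (map_zero g)
      smul_add := fun g x y => Subtype.ext (map_add g x.1 y.1)
      smul_one := fun g => Subtype.ext (map_one g)
      smul_mul := fun g x y => Subtype.ext (map_mul g x.1 y.1) }
  let A' : Subring B' := FixedPoints.subring B' G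
  haveI : SMulCommClass G A' B' := ⟨fun g a x => by
    show g • ((a : B') * x) = (a : B') * (g • x)
    rw [smul_mul', a.2 g]⟩
  haveI : Algebra.IsInvariant A' B' G := ⟨fun x hx => ⟨⟨x, hx⟩, rfl⟩⟩
  let f : C →+* B' :=
    { toFun := fun c => ⟨ι c.1, c.2.map (ι.restrictScalars R)⟩
      map_one' := Subtype.ext (map_one ι)
      map_mul' := fun x y => Subtype.ext (map_mul ι x.1 y.1)
      map_zero' := Subtype.ext (map_zero ι)
      map_add' := fun x y => Subtype.ext (map_add ι x.1 y.1) }
  have hfR : ∀ a : R, f (algebraMap R C a) = algebraMap R B' a := fun a =>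
    Subtype.ext ((ι.restrictScalars R).commutes a)
  letI := f.toAlgebra
  haveI : IsScalarTower R C B' := IsScalarTower.of_algebraMap_eq fun a => (hfR a).symm
  haveI : Algebra.IsIntegral R B' := inferInstance
  haveI : Algebra.IsIntegral C B' := ⟨fun x => (Algebra.IsIntegral.isIntegral (R := R) x).tower_top⟩
  have hfinj : Function.Injective f := fun x y h => Subtype.ext (ι.toRingHom.injective (congrArg Subtype.val h))
  choose rr hrr using fun j => exists_extension (R := C) (S := B') hfinj (ηC j)
  have hrrC : ∀ j c, rr j (f c) = ηC j c := fun j c => congr($(hrr j) c)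
  have hrrR : ∀ j a, rr j (algebraMap R B' a) = η a := fun j a => by rw [← hfR, hrrC, hη]
  have hn0 : 0 < n := hn ▸ Module.finrank_pos
  let r := rr ⟨0, hn0⟩
  obtain ⟨q, hq⟩ := ExpChar.exists K
  haveI := hq
  have hinjR : Function.Injective (algebraMap R B') := fun x y h => IsFractionRing.injective R K
    ((algebraMap K N).injective (by
      simpa [← IsScalarTower.algebraMap_apply] using congrArg Subtype.val h))
  have hagree : ∀ j (a : A'), rr j (algebraMap A' B' a) = r (algebraMap A' B' a) := by
    intro j a
    obtain ⟨e, y, hy⟩ := exists_pow_mem q (a.1.1 : N) fun g => congrArg Subtype.val (a.2 g)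
    have hyint : IsIntegral R y := (isIntegral_algebraMap_iff (algebraMap K N).injective).1
      (hy ▸ a.1.2.pow _)
    obtain ⟨a₀, ha₀⟩ := IsIntegrallyClosed.isIntegral_iff.1 hyint
    have hpow : (algebraMap A' B' a) ^ q ^ e = algebraMap R B' a₀ := by
      refine Subtype.ext ?_
      show (a.1.1 : N) ^ q ^ e = algebraMap R N a₀
      rw [← hy, ← ha₀, ← IsScalarTower.algebraMap_apply]
    have h2 : rr j (algebraMap A' B' a) ^ q ^ e = r (algebraMap A' B' a) ^ q ^ e := by
      rw [← map_pow (rr j), ← map_pow r, hpow, hrrR, hrrR]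
    rcases hq with hq | ⟨hprime⟩
    · simpa using h2
    · haveI : Fact q.Prime := ⟨hprime⟩
      haveI : CharP Ω q := by
        refine (CharP.charP_iff_prime_eq_zero hprime).2 ?_
        have h0 : (q : R) = 0 := IsFractionRing.injective R K (by rw [map_natCast, CharP.cast_eq_zero, map_zero])
        rw [← map_natCast η, h0, map_zero]
      haveI : ExpChar Ω q := ExpChar.prime hprime
      exact iterateFrobenius_inj Ω q e h2
  choose g hg using fun j => exists_smul_comp_eq (G := G) r (rr j) fun a => (hagree j a).symm
  let σ : Fin n → (L →ₐ[K] AlgebraicClosure K) := fun j => N.val.comp ((g j).toAlgHom.comp ι)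
  have hσinj : Function.Injective σ := fun i j hij => hinj (RingHom.ext fun c => by
    rw [← hrrC i c, ← hrrC j c, hg i, hg j]
    refine congrArg r (Subtype.ext (N.val.toRingHom.injective ?_))
    exact congr($hij (c : L)))
  haveI : Finite (L →ₐ[K] AlgebraicClosure K) := inferInstance
  have hcard : Nat.card (L →ₐ[K] AlgebraicClosure K) = Field.finSepDegree K L :=
    (Field.finSepDegree_eq_of_isAlgClosed K L (AlgebraicClosure K)).symm
  have hle : n ≤ Field.finSepDegree K L := by
    rw [← hcard, ← Nat.card_fin n]
    exact Nat.card_le_card_of_injective σ hσinj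
  have heq : Field.finSepDegree K L = n := le_antisymm (hn ▸ Field.finSepDegree_le_finrank K L) hle
  haveI : Algebra.IsSeparable K L := (Field.finSepDegree_eq_finrank_iff K L).1 (heq.trans hn.symm)
  have hbij : Function.Bijective σ :=
    (Nat.bijective_iff_injective_and_card σ).2 ⟨hσinj, by rw [Nat.card_fin, hcard, heq]⟩
  have hdisc := Algebra.discr_eq_det_embeddingsMatrixReindex_pow_two K (AlgebraicClosure K) b (Equiv.ofBijective σ hbij)
  let M : Matrix (Fin n) (Fin n) B' := Matrix.of fun i j => g j • f (bC i)
  let v : B' →+* AlgebraicClosure K := N.val.toRingHom.comp B'.val.toRingHom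
  have hv : Function.Injective v := fun x y h => Subtype.ext (N.val.toRingHom.injective h)
  have hM : M.map v = Algebra.embeddingsMatrixReindex K (AlgebraicClosure K) b (Equiv.ofBijective σ hbij) := by
    ext i j
    rfl
  have hdM : algebraMap R B' d = M.det ^ 2 := by
    refine hv ?_
    rw [map_pow, RingHom.map_det, RingHom.mapMatrix_apply, hM, ← hdisc, ← hd, ← IsScalarTower.algebraMap_apply]
    rfl
  have hr : r M.det = (Matrix.of fun i j => ηC j (bC i)).det := by
    rw [RingHom.map_det]
    congr 1
    ext i j
    show r (g j • f (bC i)) = ηC j (bC i)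
    rw [← hg, hrrC]
  rw [← hrrR ⟨0, hn0⟩ d]
  show r (algebraMap R B' d) ≠ 0
  rw [hdM, map_pow, hr]
  exact pow_ne_zero 2 hbC

end Groth.Agent.CardCrit
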