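import Groth.Agent.S2195
import Mathlib.RingTheory.Discriminant
import Mathlib.RingTheory.IntegralClosure.IntegrallyClosed

/-! A basis with unit discriminant makes the integral closure finite etale. -/

set_option autoImplicit false
set_option linter.style.haveILetI false
universe u

noncomputable section

namespace Groth.Agent.CardCrit

open Module Matrix

theorem finite_etale_of_discr {R K L : Type u} [CommRing R] [IsDomain R] [IsIntegrallyClosed R] [Field K]
    [Algebra R K] [IsFractionRing R K] [Field L] [Algebra K L] [Algebra R L] [IsScalarTower R K L]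
    [FiniteDimensional K L] {n : ℕ} (hn : finrank K L = n) (b : Fin n → L) (hb : ∀ i, IsIntegral R (b i))
    (d : R) (hd : algebraMap R K d = Algebra.discr K b) (hu : IsUnit d) :
    Module.Finite R (integralClosure R L) ∧ Algebra.Etale R (integralClosure R L) := by
  classical
  have hne : Algebra.discr K b ≠ 0 := hd ▸ (hu.map (algebraMap R K)).ne_zero
  have hli : LinearIndependent K b := by
    by_contra h
    exact hne (Algebra.discr_zero_of_not_linearIndependent K h)
  have hn0 : 0 < n := hn ▸ Module.finrank_pos
  haveI : Nonempty (Fin n) := ⟨⟨0, hn0⟩⟩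
  let B : Basis (Fin n) K L := basisOfLinearIndependentOfCardEqFinrank hli (by rw [Fintype.card_fin, hn])
  have hB : ⇑B = b := coe_basisOfLinearIndependentOfCardEqFinrank hli _
  have hT : ∀ i j, ∃ t : R, algebraMap R K t = Algebra.traceMatrix K b i j := fun i j =>
    IsIntegrallyClosed.isIntegral_iff.1 (Algebra.isIntegral_trace ((hb i).mul (hb j)))
  choose T hT using hT
  have hTdet : algebraMap R K (Matrix.of T).det = Algebra.discr K b := by
    rw [RingHom.map_det, Algebra.discr_def]
    congr 1
    ext i j
    exact hT i j
  have hTu : IsUnit (Matrix.of T) := by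
    rw [Matrix.isUnit_iff_isUnit_det, show (Matrix.of T).det = d from IsFractionRing.injective R K (hTdet.trans hd.symm)]
    exact hu
  obtain ⟨P, hP⟩ := hTu.exists_left_inv
  let bC : Fin n → integralClosure R L := fun i => ⟨b i, hb i⟩
  have hliC : LinearIndependent R bC := by
    refine LinearIndependent.of_comp (integralClosure R L).val.toLinearMap ?_
    exact LinearIndependent.restrict_scalars (by
      intro x y h
      simp only [Algebra.smul_def, mul_one] at h
      exact IsFractionRing.injective R K h) hli
  have hspan : ⊤ ≤ Submodule.span R (Set.range bC) := by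
    rintro x -
    have hv : ∀ k, ∃ t : R, algebraMap R K t = Algebra.trace K L (x.1 * b k) := fun k =>
      IsIntegrallyClosed.isIntegral_iff.1 (Algebra.isIntegral_trace (x.2.mul (hb k)))
    choose v hv using hv
    let c : Fin n → K := fun i => B.repr x.1 i
    have hx : x.1 = ∑ i, c i • b i := by rw [← hB]; exact (B.sum_repr x.1).symm
    let Tk : Matrix (Fin n) (Fin n) K := (Matrix.of T).map (algebraMap R K)
    have hTc : Tk *ᵥ c = fun k => algebraMap R K (v k) := by
      funext k
      rw [hv, hx, Finset.sum_mul, map_sum (Algebra.trace K L)]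
      show ∑ i, Tk k i * c i = _
      refine Finset.sum_congr rfl fun i _ => ?_
      show algebraMap R K (T k i) * c i = _
      rw [hT, Algebra.traceMatrix_apply, Algebra.traceForm_apply, smul_mul_assoc, map_smul, smul_eq_mul,
        mul_comm (b k), mul_comm]
    have hc : c = fun i => algebraMap R K ((P *ᵥ v) i) := by
      have h1 : P.map (algebraMap R K) * Tk = 1 := by
        rw [← Matrix.map_mul, hP, Matrix.map_one _ (map_zero _) (map_one _)]
      calc c = (P.map (algebraMap R K) * Tk) *ᵥ c := by rw [h1, Matrix.one_mulVec]
        _ = P.map (algebraMap R K) *ᵥ fun k => algebraMap R K (v k) := by rw [← Matrix.mulVec_mulVec, hTc]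
        _ = fun i => algebraMap R K ((P *ᵥ v) i) := funext fun i => (RingHom.map_mulVec _ P v i).symm
    have hx' : x = ∑ i, (P *ᵥ v) i • bC i := by
      refine Subtype.ext ?_
      rw [hx]
      simp only [AddSubmonoidClass.coe_finsetSum, SetLike.val_smul, bC]
      refine Finset.sum_congr rfl fun i _ => ?_
      rw [congrFun hc i, algebraMap_smul]
    rw [hx']
    exact Submodule.sum_mem _ fun i _ => Submodule.smul_mem _ _ (Submodule.subset_span ⟨i, rfl⟩)
  let BC : Basis (Fin n) R (integralClosure R L) := Basis.mk hliC hspan
  refine ⟨Module.Finite.of_basis BC, (Groth.Agent.S2195.result BC).2 ?_⟩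
  rw [Algebra.discr_def]
  have hTr : ∀ x : integralClosure R L, algebraMap R K (Algebra.trace R (integralClosure R L) x) = Algebra.trace K L x.1 := by
    intro x
    rw [Algebra.trace_eq_matrix_trace BC, Algebra.trace_eq_matrix_trace B]
    simp only [Matrix.trace, Matrix.diag, map_sum, Algebra.leftMulMatrix_eq_repr_mul]
    refine Finset.sum_congr rfl fun i _ => ?_
    have h : (x * BC i : integralClosure R L).1 = ∑ j, algebraMap R K (BC.repr (x * BC i) j) • B j := by
      conv_lhs => rw [← BC.sum_repr (x * BC i)]
      simp only [AddSubmonoidClass.coe_finsetSum, SetLike.val_smul]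
      refine Finset.sum_congr rfl fun j _ => ?_
      rw [algebraMap_smul, hB, show BC j = bC j from Basis.mk_apply _ _ _]
    have h2 : (x * BC i : integralClosure R L).1 = x.1 * B i := by
      rw [hB, Basis.mk_apply]; rfl
    rw [← h2, h, B.repr_sum_self]
  have : Algebra.traceMatrix R BC = Matrix.of T := by
    ext i j
    apply IsFractionRing.injective R K
    rw [Matrix.of_apply, hT, Algebra.traceMatrix_apply, Algebra.traceForm_apply, hTr,
      Algebra.traceMatrix_apply, Algebra.traceForm_apply, Basis.mk_apply, Basis.mk_apply]
    rfl
  rw [this, ← Matrix.isUnit_iff_isUnit_det]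
  exact IsUnit.of_mul_eq_one_right P hP

end Groth.Agent.CardCrit
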