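import Mathlib.RingTheory.Invariant.Basic
import Mathlib.RingTheory.Ideal.GoingUp
import Mathlib.FieldTheory.IsAlgClosed.Basic
import Mathlib.RingTheory.MvPolynomial.Basic

/-! Homomorphisms of an invariant extension into a field. -/

set_option autoImplicit false
set_option linter.style.haveILetI false
universe u

noncomputable section

namespace Groth.Agent.CardCrit

open Polynomial

/-- Two homomorphisms agreeing on the invariants differ by a group element. -/
theorem exists_smul_comp_eq {A B G : Type*} {Ω : Type*} [CommRing A] [CommRing B] [Algebra A B] [Group G] [Finite G]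
    [MulSemiringAction G B] [SMulCommClass G A B] [Algebra.IsInvariant A B G] [Field Ω] (r r' : B →+* Ω)
    (h : ∀ a : A, r (algebraMap A B a) = r' (algebraMap A B a)) : ∃ g : G, ∀ b, r' b = r (g • b) := by
  classical
  cases nonempty_fintype G
  by_contra hne
  push Not at hne
  choose b hb using hne
  let act : G → MvPolynomial G B →+* MvPolynomial G B := fun g =>
    MvPolynomial.map (MulSemiringAction.toRingHom G B g)
  let x : MvPolynomial G B := ∑ g : G, MvPolynomial.C (b g) * MvPolynomial.X g
  let p : (MvPolynomial G B)[X] := ∏ g : G, (X - C (act g x))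
  have hfix : ∀ g : G, p.map (act g) = p := by
    intro g
    simp only [p, Polynomial.map_prod, Polynomial.map_sub, Polynomial.map_X, Polynomial.map_C]
    refine Fintype.prod_equiv (Equiv.mulLeft g) _ _ fun g' => ?_
    congr 2
    simp only [act, MvPolynomial.map_map, Equiv.coe_mulLeft]
    congr 2
    exact RingHom.ext fun y => (mul_smul g g' y).symm
  have hcoe : ∀ (n : ℕ) (d : G →₀ ℕ), ∃ a : A, algebraMap A B a = (p.coeff n).coeff d := by
    intro n d
    refine Algebra.IsInvariant.isInvariant (G := G) _ fun g => ?_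
    conv_rhs => rw [← hfix g, Polynomial.coeff_map, MvPolynomial.coeff_map]
    rfl
  have hmap : p.map (MvPolynomial.map r) = p.map (MvPolynomial.map r') := by
    refine Polynomial.ext fun n => MvPolynomial.ext _ _ fun d => ?_
    obtain ⟨a, ha⟩ := hcoe n d
    rw [Polynomial.coeff_map, Polynomial.coeff_map, MvPolynomial.coeff_map, MvPolynomial.coeff_map, ← ha, h]
  have h0 : (p.map (MvPolynomial.map r')).eval (MvPolynomial.map r' x) = 0 := by
    rw [Polynomial.eval_map, Polynomial.eval₂_at_apply]
    have : p.eval x = 0 := by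
      simp only [p, Polynomial.eval_prod]
      refine Finset.prod_eq_zero (Finset.mem_univ (1 : G)) ?_
      rw [Polynomial.eval_sub, Polynomial.eval_X, Polynomial.eval_C, sub_eq_zero]
      have : MulSemiringAction.toRingHom G B 1 = RingHom.id B := RingHom.ext fun y => one_smul G y
      simp only [act, this, MvPolynomial.map_id]
    rw [this, map_zero]
  rw [← hmap] at h0
  simp only [p, Polynomial.map_prod, Polynomial.eval_prod, Finset.prod_eq_zero_iff] at h0
  obtain ⟨g, -, hg⟩ := h0
  rw [Polynomial.map_sub, Polynomial.map_X, Polynomial.map_C, Polynomial.eval_sub, Polynomial.eval_X,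
    Polynomial.eval_C, sub_eq_zero] at hg
  have := congrArg (MvPolynomial.coeff (Finsupp.single g 1)) hg
  simp only [x, act, map_sum, map_mul, MvPolynomial.map_C, MvPolynomial.map_X, MvPolynomial.coeff_sum,
    MvPolynomial.coeff_C_mul, MvPolynomial.coeff_X'] at this
  simp [Finsupp.single_left_inj] at this
  exact hb g this

/-- Homomorphisms to an algebraically closed field extend along integral extensions. -/
theorem exists_extension {R S : Type*} {Ω : Type*} [CommRing R] [CommRing S] [Algebra R S] [Algebra.IsIntegral R S]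
    (hinj : Function.Injective (algebraMap R S)) [Field Ω] [IsAlgClosed Ω] (r : R →+* Ω) :
    ∃ r' : S →+* Ω, r'.comp (algebraMap R S) = r := by
  haveI : (RingHom.ker r).IsPrime := RingHom.ker_isPrime r
  obtain ⟨Q, -, hQp, hQ⟩ := Ideal.exists_ideal_over_prime_of_isIntegral (RingHom.ker r) (⊥ : Ideal S)
    (by rw [← RingHom.ker_eq_comap_bot, (RingHom.injective_iff_ker_eq_bot _).1 hinj]; exact bot_le)
  let φ : R ⧸ RingHom.ker r →+* Ω := Ideal.Quotient.lift _ r fun a ha => ha
  have hφ : Function.Injective φ := RingHom.lift_injective_of_ker_le_ideal _ _ le_rfl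
  let ψ : R ⧸ RingHom.ker r →+* S ⧸ Q := Ideal.quotientMap Q (algebraMap R S) hQ.ge
  have hψ : Function.Injective ψ := Ideal.quotientMap_injective' hQ.le
  letI := ψ.toAlgebra
  letI := φ.toAlgebra
  haveI : FaithfulSMul (R ⧸ RingHom.ker r) Ω := (faithfulSMul_iff_algebraMap_injective _ _).2 hφ
  haveI : FaithfulSMul (R ⧸ RingHom.ker r) (S ⧸ Q) := (faithfulSMul_iff_algebraMap_injective _ _).2 hψ
  haveI : Algebra.IsIntegral (R ⧸ RingHom.ker r) (S ⧸ Q) := ⟨fun z => by
    obtain ⟨z, rfl⟩ := Ideal.Quotient.mk_surjective z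
    obtain ⟨q, hq, hz⟩ := Algebra.IsIntegral.isIntegral (R := R) z
    refine ⟨q.map (Ideal.Quotient.mk _), hq.map _, ?_⟩
    rw [Polynomial.eval₂_map, show (algebraMap (R ⧸ RingHom.ker r) (S ⧸ Q)).comp (Ideal.Quotient.mk _) =
      (Ideal.Quotient.mk Q).comp (algebraMap R S) from RingHom.ext fun _ => rfl, ← Polynomial.hom_eval₂, hz, map_zero]⟩
  haveI : IsDomain (R ⧸ RingHom.ker r) := Ideal.Quotient.isDomain _
  haveI : IsDomain (S ⧸ Q) := Ideal.Quotient.isDomain _
  haveI : Algebra.IsAlgebraic (R ⧸ RingHom.ker r) (S ⧸ Q) := inferInstance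
  let χ : (S ⧸ Q) →ₐ[R ⧸ RingHom.ker r] Ω := IsAlgClosed.lift
  refine ⟨χ.toRingHom.comp (Ideal.Quotient.mk Q), RingHom.ext fun a => ?_⟩
  exact χ.commutes (Ideal.Quotient.mk _ a)

end Groth.Agent.CardCrit
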