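import Groth.Agent.CardCrit.Core
import Groth.Agent.CardCrit.Etale
import Groth.Agent.Pi1X.FEtPoints
import Groth.Agent.Pi1X.FEtGalois
import Groth.Prelude.Def_Pi1
import Mathlib.AlgebraicGeometry.Normalization
import Mathlib.AlgebraicGeometry.FunctionField
import Mathlib.RingTheory.LocalProperties.IntegrallyClosed

/-! The cardinality criterion for a normalization to be etale near a point. -/

set_option autoImplicit false
set_option linter.style.haveILetI false
set_option backward.isDefEq.respectTransparency false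
set_option backward.isDefEq.respectTransparency.types false
set_option maxHeartbeats 1000000
universe u

open CategoryTheory CategoryTheory.Limits AlgebraicGeometry TopologicalSpace

noncomputable section

namespace Groth.Agent.CardCrit

theorem isIntegrallyClosed_sections {X : Scheme.{u}} [IsIntegral X] (hX : Pi1.IsNormalScheme X) {U : X.Opens}
    (hU : IsAffineOpen U) [Nonempty U] : IsIntegrallyClosed Γ(X, U) := by
  haveI : IsDomain Γ(X, U) := IsIntegral.component_integral U
  refine IsIntegrallyClosed.of_localization_maximal fun p _ hpm => ?_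
  let q : PrimeSpectrum Γ(X, U) := ⟨p, hpm.isPrime⟩
  have hq : hU.fromSpec q ∈ U := hU.opensRange_fromSpec.le ⟨q, rfl⟩
  letI := TopCat.Presheaf.algebra_section_stalk X.presheaf (⟨hU.fromSpec q, hq⟩ : U)
  haveI : IsLocalization.AtPrime (X.presheaf.stalk (hU.fromSpec q)) p := hU.isLocalization_stalk' q hq
  haveI := (hX (hU.fromSpec q)).2
  exact IsIntegrallyClosed.of_equiv (IsLocalization.algEquiv p.primeCompl
    (X.presheaf.stalk (hU.fromSpec q)) (Localization.AtPrime p)).toRingEquiv

variable {X : Scheme.{u}} [IsIntegral X] (L : Type u) [Field L] [Algebra X.functionField L]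
  [FiniteDimensional X.functionField L]

/-- The point of `X` with values in the extension field. -/
abbrev genPt : Spec (CommRingCat.of L) ⟶ X :=
  Spec.map (CommRingCat.ofHom (algebraMap X.functionField L)) ≫ X.fromSpecStalk (genericPoint X)

/-- The structure map from sections to the extension field. -/
abbrev toExt (U : X.Opens) [Nonempty U] : Γ(X, U) →+* L :=
  (algebraMap X.functionField L).comp (X.germToFunctionField U).hom

variable [QuasiCompact (genPt (X := X) L)] [QuasiSeparated (genPt (X := X) L)]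

theorem exists_sections_equiv {U : X.Opens} (hU : IsAffineOpen U) [Nonempty U] :
    letI := (toExt L U).toAlgebra
    ∃ Φ : Γ((genPt (X := X) L).normalization, (genPt (X := X) L).fromNormalization ⁻¹ᵁ U) ≃+* integralClosure Γ(X, U) L,
      ∀ a, Φ ((genPt (X := X) L).fromNormalization.app U a) = algebraMap Γ(X, U) (integralClosure Γ(X, U) L) a := by
  letI := (toExt L U).toAlgebra
  let f := genPt (X := X) L
  have hgen : genericPoint X ∈ U :=
    ((genericPoint_spec X).mem_open_set_iff U.isOpen).2 (by simpa using Set.nonempty_coe_sort.1 ‹Nonempty U›)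
  have htop : (⊤ : (Spec (CommRingCat.of L)).Opens) ≤ f ⁻¹ᵁ U := by
    intro z _
    show f z ∈ U
    have : (X.fromSpecStalk (genericPoint X)) (Spec.map (CommRingCat.ofHom (algebraMap X.functionField L)) z) ∈
        Set.range (X.fromSpecStalk (genericPoint X)) := ⟨_, rfl⟩
    rw [Scheme.range_fromSpecStalk] at this
    exact this.mem_open U.isOpen hgen
  letI : Algebra Γ(X, U) Γ(Spec (CommRingCat.of L), f ⁻¹ᵁ U) := (f.app U).hom.toAlgebra
  let e₀ : Γ(Spec (CommRingCat.of L), f ⁻¹ᵁ U) ≅ CommRingCat.of L :=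
    (Spec (CommRingCat.of L)).presheaf.mapIso (eqToIso (top_le_iff.1 htop).symm).op ≪≫ Scheme.ΓSpecIso _
  have he₀ : f.app U ≫ e₀.hom = X.germToFunctionField U ≫ CommRingCat.ofHom (algebraMap X.functionField L) := by
    apply Spec.map_injective
    rw [← cancel_mono hU.fromSpec, Spec.map_comp (X.germToFunctionField U), Category.assoc]
    have h3 : Spec.map (X.germToFunctionField U) ≫ hU.fromSpec = X.fromSpecStalk (genericPoint X) :=
      hU.fromSpecStalk_eq_fromSpecStalk hgen
    rw [h3]
    have h1 := RelSpecX.spec_hom_eq f hU htop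
    refine Eq.trans ?_ h1.symm
    congr 2
  let e : Γ(Spec (CommRingCat.of L), f ⁻¹ᵁ U) ≃ₐ[Γ(X, U)] L :=
    AlgEquiv.ofRingEquiv (f := e₀.commRingCatIsoToRingEquiv) fun a => congr($(he₀).hom a)
  let Φ₁ := (f.normalizationObjIso hU).commRingCatIsoToRingEquiv
  refine ⟨Φ₁.trans e.mapIntegralClosure.toRingEquiv, fun a => ?_⟩
  have h2 : Φ₁ (f.fromNormalization.app U a) = algebraMap Γ(X, U) _ a := by
    rw [f.fromNormalization_app hU]
    show (f.normalizationObjIso hU).hom ((f.normalizationObjIso hU).inv _) = _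
    rw [← CommRingCat.comp_apply, Iso.inv_hom_id]
    rfl
  show e.mapIntegralClosure (Φ₁ (f.fromNormalization.app U a)) = _
  rw [h2]
  exact e.mapIntegralClosure.commutes a

theorem exists_etale_nhd (hX : Pi1.IsNormalScheme X) (Ω : Type u) [Field Ω] [IsAlgClosed Ω]
    (ξ : Spec (CommRingCat.of Ω) ⟶ X)
    (hcard : Nonempty (Fin (Module.finrank X.functionField L) ↪ Pi1X.Lifts ξ (genPt (X := X) L).fromNormalization)) :
    ∃ U : X.Opens, Set.range ξ.base ⊆ (U : Set X) ∧
      Etale (pullback.snd (genPt (X := X) L).fromNormalization U.ι) ∧ IsFinite (pullback.snd (genPt (X := X) L).fromNormalization U.ι) := by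
  obtain ⟨U, hU, hxU, -⟩ := exists_isAffineOpen_mem_and_subset (x := ξ (IsLocalRing.closedPoint Ω)) (U := (⊤ : X.Opens)) trivial
  haveI : Nonempty U := ⟨⟨_, hxU⟩⟩
  haveI : IsDomain Γ(X, U) := IsIntegral.component_integral U
  haveI := isIntegrallyClosed_sections hX hU
  haveI := functionField_isFractionRing_of_isAffineOpen X U hU
  letI := (toExt L U).toAlgebra
  haveI : IsScalarTower Γ(X, U) X.functionField L := IsScalarTower.of_algebraMap_eq' rfl
  obtain ⟨Φ, hΦ⟩ := exists_sections_equiv L hU
  let η : Γ(X, U) →+* Ω := (ξ.appLE U ⊤ (Pi1X.top_le_preimage_base ξ hxU) ≫ (Scheme.ΓSpecIso _).hom).hom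
  obtain ⟨emb⟩ := hcard
  letI := Pi1X.baseAlg ξ hxU
  letI := Pi1X.secAlg (genPt (X := X) L).fromNormalization U
  let ηC : Fin (Module.finrank X.functionField L) → integralClosure Γ(X, U) L →+* Ω := fun j =>
    (Pi1X.toSecPt ξ hxU (emb j) : Pi1X.secPt ξ hxU (genPt (X := X) L).fromNormalization).toRingHom.comp Φ.symm.toRingHom
  have hinj : Function.Injective ηC := fun i j hij => emb.injective ((Pi1X.toSecPt_bijective ξ hU hxU).1 (AlgHom.ext fun s => by
    have := congr($hij (Φ s))
    simpa [ηC] using this))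
  have hη : ∀ j a, ηC j (algebraMap Γ(X, U) (integralClosure Γ(X, U) L) a) = η a := fun j a => by
    show (Pi1X.toSecPt ξ hxU (emb j) : Pi1X.secPt ξ hxU (genPt (X := X) L).fromNormalization) (Φ.symm _) = _
    rw [← hΦ, RingEquiv.symm_apply_apply]
    exact AlgHom.commutes _ a
  obtain ⟨b, d, hb, hd, hd0⟩ := exists_discr (K := X.functionField) η rfl ηC hinj hη
  let V := X.basicOpen d
  have hVU : V ≤ U := X.basicOpen_le d
  have hxV : ξ (IsLocalRing.closedPoint Ω) ∈ V := by
    have hu : IsUnit (ξ.appLE U ⊤ (Pi1X.top_le_preimage_base ξ hxU) d) := by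
      refine (isUnit_map_iff (Scheme.ΓSpecIso (CommRingCat.of Ω)).commRingCatIsoToRingEquiv _).1 ?_
      exact isUnit_iff_ne_zero.2 hd0
    have h1 : (⊤ : (Spec (CommRingCat.of Ω)).Opens) ≤ ξ ⁻¹ᵁ V := by
      rw [Scheme.preimage_basicOpen]
      have h2 : (Spec (CommRingCat.of Ω)).basicOpen (ξ.appLE U ⊤ (Pi1X.top_le_preimage_base ξ hxU) d) = ⊤ :=
        Scheme.basicOpen_of_isUnit _ hu
      rw [← h2, Scheme.Hom.appLE, CommRingCat.comp_apply, Scheme.basicOpen_res]
      exact inf_le_right
    exact h1 (trivial : IsLocalRing.closedPoint Ω ∈ (⊤ : (Spec (CommRingCat.of Ω)).Opens))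
  have hV : IsAffineOpen V := hU.basicOpen d
  haveI : Nonempty V := ⟨⟨_, hxV⟩⟩
  haveI : IsDomain Γ(X, V) := IsIntegral.component_integral V
  haveI := isIntegrallyClosed_sections hX hV
  haveI := functionField_isFractionRing_of_isAffineOpen X V hV
  letI : Algebra Γ(X, V) L := (toExt L V).toAlgebra
  haveI : IsScalarTower Γ(X, V) X.functionField L := IsScalarTower.of_algebraMap_eq' rfl
  let res := X.presheaf.map (homOfLE hVU).op
  have hres : ∀ a, X.germToFunctionField V (res a) = X.germToFunctionField U a := fun a =>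
    congr($(X.presheaf.germ_res (homOfLE hVU) (genericPoint X) _) a)
  letI : Algebra Γ(X, U) Γ(X, V) := res.hom.toAlgebra
  haveI : IsScalarTower Γ(X, U) Γ(X, V) L := IsScalarTower.of_algebraMap_eq fun a =>
    congrArg (algebraMap X.functionField L) (hres a).symm
  obtain ⟨hfin, het⟩ := finite_etale_of_discr (K := X.functionField) (R := Γ(X, V)) rfl b
    (fun i => (hb i).tower_top) (res d) ((hres d).trans hd) (X.toRingedSpace.isUnit_res_basicOpen d)
  obtain ⟨Ψ, hΨ⟩ := exists_sections_equiv L hV
  let ν := (genPt (X := X) L).fromNormalization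
  have hcomp : (ν.app V).hom = Ψ.symm.toRingHom.comp (algebraMap Γ(X, V) (integralClosure Γ(X, V) L)) :=
    RingHom.ext fun a => (Ψ.injective ((hΨ a).trans (Ψ.apply_symm_apply _).symm))
  have hf : (ν.app V).hom.Finite := by
    rw [hcomp]; exact RingHom.finite_respectsIso.1 _ Ψ.symm (RingHom.finite_algebraMap.2 hfin)
  have he : (ν.app V).hom.Etale := by
    rw [hcomp]; exact RingHom.Etale.respectsIso.1 _ Ψ.symm (RingHom.etale_algebraMap.2 het)
  haveI : IsAffine V.toScheme := hV
  haveI : IsAffine (ν ⁻¹ᵁ V).toScheme := hV.preimage ν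
  have hF : IsFinite (ν ∣_ V) := by
    rw [HasAffineProperty.iff_of_isAffine (P := @IsFinite)]
    refine ⟨inferInstance, ?_⟩
    rw [← Scheme.Hom.resLE_eq_morphismRestrict,
      RingHom.finite_respectsIso.arrow_mk_iso_iff (arrowResLEAppIso ν _ _ le_rfl), Scheme.Hom.appLE_eq_app]
    exact hf
  have hE : Etale (ν ∣_ V) := by
    rw [HasRingHomProperty.iff_of_isAffine (P := @Etale), ← Scheme.Hom.resLE_eq_morphismRestrict,
      RingHom.Etale.respectsIso.arrow_mk_iso_iff (arrowResLEAppIso ν _ _ le_rfl), Scheme.Hom.appLE_eq_app]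
    exact he
  let i := (isPullback_morphismRestrict ν V).flip.isoPullback
  have hi : pullback.snd ν V.ι = i.inv ≫ (ν ∣_ V) := (IsPullback.isoPullback_inv_snd _).symm
  refine ⟨V, ?_, ?_, ?_⟩
  · rintro _ ⟨z, rfl⟩
    rw [Pi1X.eq_closedPoint z]
    exact hxV
  · rw [hi]; infer_instance
  · rw [hi]; infer_instance

end Groth.Agent.CardCrit
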